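/-
Signed sums of margin-matrix counts, through Cauchy's determinant.
* `marginCount α β` : the number of `n × n` matrices over `ℕ` with row sums `α` and column sums `β`
* `cauchy_det` : `det (∏_{k≠j} (1 - x i * y k)) = det V(x) * det V(y)`
* `alternating_marginCount` : for strictly increasing `lam`, `mu`, the sum over permutations `σ τ` of
  `sign σ * sign τ * marginCount (lam - σ) (mu - τ)` is `1` if `lam = mu` and `0` otherwise.
-/
import Cfsg.Agent.EqLemmas

set_option autoImplicit false

namespace Cfsg.Agent.GLFlag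

open Finset

/-- The number of matrices of natural numbers with the given margins. -/
noncomputable def marginCount {n : ℕ} (α β : Fin n → ℕ) : ℕ :=
  Nat.card {M : Fin n → Fin n → ℕ // (∀ a, ∑ b, M a b = α a) ∧ ∀ b, ∑ a, M a b = β b}

section cauchy

variable {R : Type*} [CommRing R]

/-- The reversed evaluation of `∏ (1 - C (a k) X)`. -/
theorem sum_coeff_prod_one_sub {ι : Type*} [DecidableEq ι] (a : ι → R) (b : R) (s : Finset ι) :
    (∏ k ∈ s, (1 - Polynomial.C (a k) * Polynomial.X)).natDegree ≤ s.card ∧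
    ∑ m ∈ range (s.card + 1), (∏ k ∈ s, (1 - Polynomial.C (a k) * Polynomial.X)).coeff m *
      b ^ (s.card - m) = ∏ k ∈ s, (b - a k) := by
  induction s using Finset.induction_on with
  | empty => simp
  | @insert k s hk ih =>
    obtain ⟨hdeg, ih⟩ := ih
    set f := ∏ k ∈ s, (1 - Polynomial.C (a k) * Polynomial.X) with hf
    have hdeg' : (1 - Polynomial.C (a k) * Polynomial.X).natDegree ≤ 1 := by
      refine (Polynomial.natDegree_sub_le _ _).trans (max_le (by simp) ?_)
      exact (Polynomial.natDegree_C_mul_le _ _).trans Polynomial.natDegree_X_le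
    rw [prod_insert hk, prod_insert hk, card_insert_of_notMem hk]
    refine ⟨(Polynomial.natDegree_mul_le).trans (by rw [← hf]; omega), ?_⟩
    rw [← hf, ← ih]
    have hc : ∀ m, ((1 - Polynomial.C (a k) * Polynomial.X) * f).coeff m =
        f.coeff m - a k * (if m = 0 then 0 else f.coeff (m - 1)) := by
      intro m
      rw [sub_mul, one_mul, Polynomial.coeff_sub, mul_assoc, Polynomial.coeff_C_mul]
      cases m with
      | zero => simp
      | succ m => simp [Polynomial.coeff_X_mul]
    have h1 : ∑ m ∈ range (s.card + 1 + 1), f.coeff m * b ^ (s.card + 1 - m) =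
        b * ∑ m ∈ range (s.card + 1), f.coeff m * b ^ (s.card - m) := by
      rw [sum_range_succ, Polynomial.coeff_eq_zero_of_natDegree_lt (Nat.lt_succ_of_le hdeg), zero_mul,
        add_zero, mul_sum]
      refine sum_congr rfl fun m hm => ?_
      rw [mem_range] at hm
      rw [show s.card + 1 - m = (s.card - m) + 1 by omega, pow_succ]; ring
    have h2 : ∑ m ∈ range (s.card + 1 + 1), (if m = 0 then 0 else f.coeff (m - 1)) * b ^ (s.card + 1 - m) =
        ∑ m ∈ range (s.card + 1), f.coeff m * b ^ (s.card - m) := by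
      rw [sum_range_succ']
      simp
    calc _ = ∑ m ∈ range (s.card + 1 + 1), (f.coeff m * b ^ (s.card + 1 - m) -
          a k * ((if m = 0 then 0 else f.coeff (m - 1)) * b ^ (s.card + 1 - m))) := by
            refine sum_congr rfl fun m _ => ?_
            rw [hc]; ring
      _ = _ := by rw [sum_sub_distrib, ← mul_sum, h1, h2]; ring

/-- Cauchy's determinant. -/
theorem cauchy_det [IsDomain R] {n : ℕ} (x y : Fin n → R) (hy : Function.Injective y) :
    (Matrix.of fun i j => ∏ k ∈ univ.erase j, (1 - x i * y k)).det =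
      (Matrix.vandermonde x).det * (Matrix.vandermonde y).det := by
  classical
  rcases Nat.eq_zero_or_pos n with rfl | hn
  · simp [Matrix.det_isEmpty]
  let f : Fin n → Polynomial R := fun j => ∏ k ∈ univ.erase j, (1 - Polynomial.C (y k) * Polynomial.X)
  have hcard : ∀ j : Fin n, (univ.erase j).card = n - 1 := fun j => by simp [card_erase_of_mem]
  let E : Matrix (Fin n) (Fin n) R := Matrix.of fun m j => (f j).coeff m.1
  have hA : (Matrix.of fun i j => ∏ k ∈ univ.erase j, (1 - x i * y k)) = Matrix.vandermonde x * E := by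
    ext i j
    have hdeg : (f j).natDegree < n := by
      have := (sum_coeff_prod_one_sub y 0 (univ.erase j)).1
      rw [hcard] at this
      simp only [f]; omega
    have e := Polynomial.eval_eq_sum_range' hdeg (x i)
    simp only [f, Polynomial.eval_prod, Polynomial.eval_sub, Polynomial.eval_one, Polynomial.eval_mul,
      Polynomial.eval_C, Polynomial.eval_X] at e
    simp only [Matrix.of_apply, Matrix.mul_apply, Matrix.vandermonde_apply, E]
    rw [show ∏ k ∈ univ.erase j, (1 - x i * y k) = ∏ k ∈ univ.erase j, (1 - y k * x i) from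
      prod_congr rfl (fun k _ => by ring), e, Finset.sum_range]
    exact sum_congr rfl fun m _ => mul_comm _ _
  have hW : Matrix.projVandermonde 1 y * E =
      Matrix.diagonal fun i => ∏ k ∈ univ.erase i, (y i - y k) := by
    ext i j
    have e := (sum_coeff_prod_one_sub y (y i) (univ.erase j)).2
    rw [hcard, show n - 1 + 1 = n by omega, Finset.sum_range] at e
    have : (Matrix.projVandermonde 1 y * E) i j = ∏ k ∈ univ.erase j, (y i - y k) := by
      rw [← e]
      simp only [Matrix.mul_apply, E, Matrix.of_apply, f, Matrix.projVandermonde_apply, Pi.one_apply,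
        one_pow, one_mul, Fin.val_rev]
      refine sum_congr rfl fun m _ => ?_
      rw [show n - ((m : ℕ) + 1) = n - 1 - (m : ℕ) by omega, mul_comm]
    rw [this, Matrix.diagonal_apply]
    split_ifs with h
    · subst h; rfl
    · exact prod_eq_zero (mem_erase.2 ⟨h, mem_univ _⟩) (sub_self _)
  have hWdet : (Matrix.projVandermonde 1 y).det = ∏ i : Fin n, ∏ j ∈ Ioi i, (y i - y j) := by
    rw [Matrix.det_projVandermonde]
    simp
  have hsplit : ∏ i, ∏ k ∈ univ.erase i, (y i - y k) =
      (∏ i : Fin n, ∏ j ∈ Ioi i, (y i - y j)) * (Matrix.vandermonde y).det := by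
    have he : ∀ i : Fin n, univ.erase i = Ioi i ∪ Iio i := fun i => by
      ext k; simp only [mem_erase, mem_univ, and_true, mem_union, mem_Ioi, mem_Iio]; exact ne_iff_lt_or_gt.trans or_comm
    have hd : ∀ i : Fin n, Disjoint (Ioi i) (Iio i) := fun i => by
      rw [disjoint_left]; intro k h1 h2; simp only [mem_Ioi, mem_Iio] at h1 h2; exact lt_asymm h1 h2
    rw [Matrix.det_vandermonde]
    simp only [he, prod_union (hd _), prod_mul_distrib]
    congr 1
    exact prod_comm' (by simp)
  have hne : (∏ i : Fin n, ∏ j ∈ Ioi i, (y i - y j)) ≠ 0 := by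
    refine prod_ne_zero_iff.2 fun i _ => prod_ne_zero_iff.2 fun j hj => sub_ne_zero.2 ?_
    exact fun h => (mem_Ioi.1 hj).ne (hy h)
  have hE : E.det = (Matrix.vandermonde y).det := by
    have h := congrArg Matrix.det hW
    rw [Matrix.det_mul, hWdet, Matrix.det_diagonal, hsplit] at h
    exact mul_left_cancel₀ hne h
  rw [hA, Matrix.det_mul, hE]

end cauchy

/-! ### Power series -/

section series

variable {σ : Type*}

open MvPowerSeries in
/-- The geometric series in a monomial. -/
noncomputable def geo (v : σ →₀ ℕ) : MvPowerSeries σ ℤ := fun d =>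
  open Classical in if ∃ k : ℕ, d = k • v then 1 else 0

theorem coeff_geo (v d : σ →₀ ℕ) :
    MvPowerSeries.coeff d (geo v) = open Classical in if ∃ k : ℕ, d = k • v then 1 else 0 := by
  rw [MvPowerSeries.coeff_apply]
  rfl

theorem geo_mul {v : σ →₀ ℕ} (hv : v ≠ 0) : (1 - MvPowerSeries.monomial v 1) * geo v = 1 := by
  classical
  ext d
  rw [sub_mul, one_mul, map_sub, MvPowerSeries.coeff_monomial_mul, one_mul, coeff_geo, coeff_geo,
    MvPowerSeries.coeff_one]
  by_cases hd : d = 0
  · subst hd
    have : ¬ v ≤ 0 := fun h => hv (le_antisymm h (zero_le))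
    simp [this, show ∃ k : ℕ, (0 : σ →₀ ℕ) = k • v from ⟨0, by simp⟩]
  · rw [if_neg hd]
    by_cases h : ∃ k : ℕ, d = k • v
    · obtain ⟨k, hk⟩ := h
      have hk0 : k ≠ 0 := fun e => hd (by simp [hk, e])
      obtain ⟨j, rfl⟩ := Nat.exists_eq_succ_of_ne_zero hk0
      have hle : v ≤ d := by rw [hk, Nat.succ_eq_add_one, add_smul, one_smul]; exact le_add_self
      rw [if_pos ⟨_, hk⟩, if_pos hle, if_pos ⟨j, by rw [hk, Nat.succ_eq_add_one, add_smul, one_smul, add_tsub_cancel_right]⟩, sub_self]
    · rw [if_neg h]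
      split_ifs with h1 h2
      · obtain ⟨j, hj⟩ := h2
        exact absurd ⟨j + 1, by rw [add_smul, one_smul, ← hj, tsub_add_cancel_of_le h1]⟩ h
      · simp
      · simp

end series

section alternating

variable {n : ℕ}

/-- Exponent vector with the given blocks. -/
noncomputable def expVec (α β : Fin n → ℕ) : (Fin n ⊕ Fin n) →₀ ℕ :=
  Finsupp.equivFunOnFinite.symm (Sum.elim α β)

/-- Exponent of `x i * y j`. -/
noncomputable def pairVec (p : Fin n × Fin n) : (Fin n ⊕ Fin n) →₀ ℕ :=
  Finsupp.single (Sum.inl p.1) 1 + Finsupp.single (Sum.inr p.2) 1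

theorem pairVec_ne_zero (p : Fin n × Fin n) : pairVec p ≠ 0 := by
  intro h
  have := congrArg (fun d => d (Sum.inl p.1)) h
  simp [pairVec] at this

theorem coeff_prod_geo (s : Finset (Fin n × Fin n)) (α β : Fin n → ℕ) :
    MvPowerSeries.coeff (expVec α β) (∏ p ∈ s, geo (pairVec p)) =
      (Nat.card {M : Fin n → Fin n → ℕ // (∀ a b, (a, b) ∉ s → M a b = 0) ∧
        (∀ a, ∑ b, M a b = α a) ∧ ∀ b, ∑ a, M a b = β b} : ℤ) := by
  classical
  rw [MvPowerSeries.coeff_prod]
  simp only [coeff_geo, Finset.prod_boole]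
  refine (Finset.sum_congr rfl fun l _ => ?_).trans
    ((Finset.natCast_card_filter (R := ℤ) (fun l : (Fin n × Fin n) →₀ ((Fin n ⊕ Fin n) →₀ ℕ) =>
    ∀ p ∈ s, ∃ k : ℕ, l p = k • pairVec p) (s.finsuppAntidiag (expVec α β))).symm.trans ?_)
  · split_ifs <;> first | rfl | contradiction
  rw [Nat.cast_inj, ← Nat.card_eq_finsetCard]
  have key : ∀ M : Fin n → Fin n → ℕ, (∀ a b, (a, b) ∉ s → M a b = 0) →
      ∑ p ∈ s, M p.1 p.2 • pairVec p = expVec (fun a => ∑ b, M a b) (fun b => ∑ a, M a b) := by
    intro M hM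
    rw [sum_subset (subset_univ s) (fun p _ hp => by rw [hM _ _ hp, zero_smul])]
    ext t
    rcases t with a | b
    · simp [expVec, pairVec, Fintype.sum_prod_type, Finsupp.single_apply]
    · rw [Finsupp.finsetSum_apply, Fintype.sum_prod_type, sum_comm]
      simp [expVec, pairVec, Finsupp.single_apply]
  symm
  refine Nat.card_congr (Equiv.ofBijective (fun M => ⟨Finsupp.onFinset s
    (fun p => if p ∈ s then M.1 p.1 p.2 • pairVec p else 0) (fun p hp => by
      by_contra h; simp [h] at hp), ?_⟩) ⟨?_, ?_⟩)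
  · obtain ⟨hs, hα, hβ⟩ := M.2
    simp only [mem_filter, mem_finsuppAntidiag, Finsupp.onFinset_apply]
    refine ⟨⟨?_, Finsupp.support_onFinset_subset⟩, fun p hp => ⟨M.1 p.1 p.2, by simp [hp]⟩⟩
    refine (sum_congr rfl fun p hp => ?_).trans ((key M.1 hs).trans (by simp [hα, hβ]))
    exact Finsupp.onFinset_apply.trans (if_pos hp)
  · intro M M' h
    apply Subtype.ext
    ext a b
    by_cases hp : (a, b) ∈ s
    · have := congrArg (fun l : (Fin n × Fin n) →₀ ((Fin n ⊕ Fin n) →₀ ℕ) => l (a, b) (Sum.inl a)) (congrArg Subtype.val h)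
      simpa [hp, pairVec] using this
    · rw [M.2.1 a b hp, M'.2.1 a b hp]
  · rintro ⟨l, hl⟩
    simp only [mem_filter, mem_finsuppAntidiag] at hl
    obtain ⟨⟨hsum, hsupp⟩, hmul⟩ := hl
    choose! k hk using hmul
    let M : Fin n → Fin n → ℕ := fun a b => if (a, b) ∈ s then k (a, b) else 0
    have hM0 : ∀ a b, (a, b) ∉ s → M a b = 0 := fun a b h => if_neg h
    have hl : ∀ p ∈ s, l p = M p.1 p.2 • pairVec p := fun p hp => by
      rw [hk p hp]; simp [M, hp]
    have e : expVec (fun a => ∑ b, M a b) (fun b => ∑ a, M a b) = expVec α β := by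
      rw [← key M hM0, ← hsum]
      exact (sum_congr rfl hl).symm
    have e' := Finsupp.equivFunOnFinite.symm.injective e
    refine ⟨⟨M, hM0, fun a => congrFun e' (Sum.inl a), fun b => congrFun e' (Sum.inr b)⟩,
      Subtype.ext (Finsupp.ext fun p => ?_)⟩
    rw [Finsupp.onFinset_apply]
    split_ifs with hp
    · exact (hl p hp).symm
    · exact (Finsupp.notMem_support_iff.1 fun h => hp (hsupp h)).symm

theorem coeff_prod_geo_univ (α β : Fin n → ℕ) :
    MvPowerSeries.coeff (expVec α β) (∏ p : Fin n × Fin n, geo (pairVec p)) = marginCount α β := by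
  rw [coeff_prod_geo, marginCount]
  simp

theorem coeff_prod_geo_diag (π : Equiv.Perm (Fin n)) (α β : Fin n → ℕ) :
    MvPowerSeries.coeff (expVec α β) (∏ i, geo (pairVec (i, π i))) =
      if ∀ i, β (π i) = α i then 1 else 0 := by
  classical
  rw [← Finset.prod_image (f := fun p => geo (pairVec p)) (g := fun i => (i, π i))
    (fun a _ b _ h => congrArg Prod.fst h), coeff_prod_geo]
  have hsum : ∀ (M : Fin n → Fin n → ℕ), (∀ a b, (a, b) ∉ univ.image (fun i => (i, π i)) → M a b = 0) →
      (∀ a, ∑ b, M a b = M a (π a)) ∧ ∀ a, ∑ a', M a' (π a) = M a (π a) := by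
    intro M hM
    constructor
    · intro a
      refine Fintype.sum_eq_single _ fun b hb => hM a b ?_
      simpa using fun h => hb h.symm
    · intro a
      refine Fintype.sum_eq_single _ fun a' ha => hM _ _ ?_
      simpa using ha
  by_cases h : ∀ i, β (π i) = α i
  · rw [if_pos h]
    have : Nat.card {M : Fin n → Fin n → ℕ // (∀ a b, (a, b) ∉ univ.image (fun i => (i, π i)) → M a b = 0) ∧
        (∀ a, ∑ b, M a b = α a) ∧ ∀ b, ∑ a, M a b = β b} = 1 := by
      rw [Nat.card_eq_one_iff_exists]
      refine ⟨⟨fun a b => if b = π a then α a else 0, ?_, ?_, ?_⟩, ?_⟩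
      · intro a b hab
        exact if_neg fun e => hab (by simp [e])
      · intro a; simp
      · intro b
        obtain ⟨a, rfl⟩ := π.surjective b
        simp [h]
      · rintro ⟨M, hM, hr, hc⟩
        apply Subtype.ext
        ext a b
        by_cases hb : b = π a
        · subst hb; simp [← hr a, (hsum M hM).1 a]
        · simp [hb, hM a b (by simpa using fun e => hb e.symm)]
    rw [this, Nat.cast_one]
  · rw [if_neg h, Nat.cast_eq_zero, Nat.card_eq_zero]
    refine Or.inl ⟨fun M => h fun i => ?_⟩
    obtain ⟨M, hM, hr, hc⟩ := M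
    rw [← hc, ← hr, (hsum M hM).1, (hsum M hM).2]

/-- The key identity: Schur orthogonality in margin-count form. -/
theorem alternating_marginCount_eq (lam mu : Fin n → ℕ) :
    ∑ σ : Equiv.Perm (Fin n), ∑ τ : Equiv.Perm (Fin n),
      (if (∀ i, (σ i).val ≤ lam i) ∧ ∀ i, (τ i).val ≤ mu i then
        (Equiv.Perm.sign σ : ℤ) * (Equiv.Perm.sign τ : ℤ) *
          (marginCount (fun i => lam i - (σ i).val) (fun i => mu i - (τ i).val) : ℤ)
      else 0) =
    ∑ π : Equiv.Perm (Fin n), if ∀ i, mu (π i) = lam i then (Equiv.Perm.sign π : ℤ) else 0 := by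
  classical
  let x : Fin n → MvPowerSeries (Fin n ⊕ Fin n) ℤ := fun i => MvPowerSeries.X (Sum.inl i)
  let y : Fin n → MvPowerSeries (Fin n ⊕ Fin n) ℤ := fun i => MvPowerSeries.X (Sum.inr i)
  have hy : Function.Injective y := fun a b h => by
    have := congrArg (MvPowerSeries.coeff (Finsupp.single (Sum.inr a) 1)) h
    simp only [y, MvPowerSeries.coeff_index_single_X] at this
    by_contra hne
    simp [hne] at this
  have hxy : ∀ i j, x i * y j = MvPowerSeries.monomial (pairVec (i, j)) 1 := fun i j => by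
    simp only [x, y, MvPowerSeries.X_def, MvPowerSeries.monomial_mul_monomial, one_mul, pairVec]
  haveI : IsDomain (MvPowerSeries (Fin n ⊕ Fin n) ℤ) := NoZeroDivisors.to_isDomain _
  set G := ∏ p : Fin n × Fin n, geo (pairVec p) with hG
  have hrow : ∀ i j, (∏ k, geo (pairVec (i, k))) * (∏ k ∈ univ.erase j, (1 - x i * y k)) =
      geo (pairVec (i, j)) := by
    intro i j
    rw [← mul_prod_erase univ _ (mem_univ j), mul_assoc, ← prod_mul_distrib,
      prod_eq_one (fun k _ => ?_), mul_one]
    rw [hxy, mul_comm, geo_mul (pairVec_ne_zero _)]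
  have main : G * ((Matrix.vandermonde x).det * (Matrix.vandermonde y).det) =
      (Matrix.of fun i j => geo (pairVec (i, j))).det := by
    rw [← cauchy_det x y hy, hG, Fintype.prod_prod_type, ← Matrix.det_mul_column]
    congr 1
    exact Matrix.ext fun i j => hrow i j
  have hdet : ∀ z : Fin n → MvPowerSeries (Fin n ⊕ Fin n) ℤ, (Matrix.vandermonde z).det =
      ∑ σ : Equiv.Perm (Fin n), ((Equiv.Perm.sign σ : ℤ) : MvPowerSeries (Fin n ⊕ Fin n) ℤ) *
        ∏ i, z i ^ (σ i).val := fun z => by
    rw [← Matrix.det_transpose, Matrix.det_apply']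
    simp [Matrix.vandermonde_apply]
  have hmon : ∀ σ τ : Equiv.Perm (Fin n),
      (∏ i, x i ^ (σ i).val) * ∏ i, y i ^ (τ i).val =
        MvPowerSeries.monomial (expVec (fun i => (σ i).val) (fun i => (τ i).val)) 1 := by
    intro σ τ
    simp only [x, y, MvPowerSeries.X_pow_eq, MvPowerSeries.prod_monomial, MvPowerSeries.monomial_mul_monomial,
      prod_const_one, one_mul]
    congr 2
    ext t
    rcases t with a | b <;> simp [expVec, Finsupp.single_apply]
  have hL := congrArg (MvPowerSeries.coeff (expVec lam mu)) main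
  calc _ = MvPowerSeries.coeff (expVec lam mu) (G * ((Matrix.vandermonde x).det * (Matrix.vandermonde y).det)) := ?_
    _ = MvPowerSeries.coeff (expVec lam mu) (Matrix.of fun i j => geo (pairVec (i, j))).det := hL
    _ = _ := ?_
  · rw [hdet, hdet, sum_mul_sum, mul_sum, map_sum]
    refine sum_congr rfl fun σ _ => ?_
    rw [mul_sum, map_sum]
    refine sum_congr rfl fun τ _ => ?_
    rw [mul_mul_mul_comm, hmon, ← Int.cast_mul, mul_left_comm, ← zsmul_eq_mul, map_zsmul, mul_comm G,
      MvPowerSeries.coeff_monomial_mul, one_mul, smul_eq_mul, mul_ite, mul_zero]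
    refine if_congr ?_ ?_ rfl
    · constructor
      · rintro ⟨h1, h2⟩ (t | t)
        · simpa [expVec] using h1 t
        · simpa [expVec] using h2 t
      · intro h
        exact ⟨fun i => by simpa [expVec] using h (Sum.inl i), fun i => by simpa [expVec] using h (Sum.inr i)⟩
    · congr 1
      rw [← coeff_prod_geo_univ, hG]
      congr 2
      ext t
      rcases t with a | b <;> simp [expVec]
  · rw [Matrix.det_apply', map_sum]
    refine Fintype.sum_equiv (Equiv.inv _) _ _ fun π => ?_
    rw [← zsmul_eq_mul, map_zsmul, smul_eq_mul]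
    have : (∏ i, (Matrix.of fun i j => geo (pairVec (i, j))) (π i) i) =
        ∏ i, geo (pairVec (i, π.symm i)) := by
      rw [← Equiv.prod_comp π (fun i => geo (pairVec (i, π.symm i)))]
      simp
    rw [this, coeff_prod_geo_diag, mul_ite, mul_one, mul_zero]
    simp

/-- For strictly increasing vectors the signed count is `1` or `0`. -/
theorem alternating_marginCount (lam mu : Fin n → ℕ) (hl : StrictMono lam) (hm : StrictMono mu) :
    ∑ σ : Equiv.Perm (Fin n), ∑ τ : Equiv.Perm (Fin n),
      (if (∀ i, (σ i).val ≤ lam i) ∧ ∀ i, (τ i).val ≤ mu i then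
        (Equiv.Perm.sign σ : ℤ) * (Equiv.Perm.sign τ : ℤ) *
          (marginCount (fun i => lam i - (σ i).val) (fun i => mu i - (τ i).val) : ℤ)
      else 0) = if lam = mu then 1 else 0 := by
  rw [alternating_marginCount_eq]
  have hid : ∀ π : Equiv.Perm (Fin n), (∀ i, mu (π i) = lam i) → π = 1 := by
    intro π h
    have hmono : StrictMono π := fun a b hab => hm.lt_iff_lt.1 (by rw [h, h]; exact hl hab)
    exact Equiv.ext fun i => DFunLike.congr_fun
      (Subsingleton.elim (hmono.orderIsoOfSurjective π π.surjective) (OrderIso.refl _)) i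
  by_cases h : lam = mu
  · subst h
    rw [if_pos rfl, Fintype.sum_eq_single (1 : Equiv.Perm (Fin n))]
    · simp
    · intro π hπ
      exact if_neg fun hc => hπ (hid π hc)
  · rw [if_neg h, sum_eq_zero]
    intro π _
    refine if_neg fun hc => h ?_
    have := hid π hc
    subst this
    funext i
    exact (hc i).symm

end alternating

end Cfsg.Agent.GLFlag
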