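/-
Young subgroups and their double cosets.
* `compLabel_sigma`, `compLabel_lt`, `compLabel_monotone`, `card_compLabel_fiber`
* `young_dosets_card` : `Nat.card (youngSubgroup α \ S_n / youngSubgroup β) = marginCount α β`
* `relMatrix`, `young_doset_rel` : the invariant of a double coset
-/
import Cfsg.Agent.Lib.GLFlag.Cauchy

set_option autoImplicit false

namespace Cfsg.Agent.GLFlag

open Cfsg Finset

variable {n : ℕ}

theorem compLabel_of_mem {μ : Fin n → ℕ} {j : Fin n} {i : Fin n}
    (h1 : ∑ k ∈ Iio j, μ k ≤ i.val) (h2 : i.val < ∑ k ∈ Iic j, μ k) : compLabel μ i = j.val := by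
  unfold compLabel
  have hIic : ∀ j' : Fin n, univ.filter (fun k : Fin n => k ≤ j') = Iic j' := fun j' => by ext; simp
  simp only [hIic]
  have : univ.filter (fun j' : Fin n => ∑ k ∈ Iic j', μ k ≤ i.val) = Iio j := by
    ext j'
    simp only [mem_filter, mem_univ, true_and, mem_Iio]
    constructor
    · intro h
      by_contra hlt
      have : ∑ k ∈ Iic j, μ k ≤ ∑ k ∈ Iic j', μ k :=
        sum_le_sum_of_subset (Iic_subset_Iic.2 (not_lt.1 hlt))
      omega
    · intro h
      refine le_trans (sum_le_sum_of_subset ?_) h1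
      intro k hk
      rw [mem_Iic] at hk
      rw [mem_Iio]
      exact lt_of_le_of_lt hk h
  rw [this, Fin.card_Iio]

theorem compLabel_sigma {μ : Fin n → ℕ} (hμ : ∑ i, μ i = n) (k : (j : Fin n) × Fin (μ j)) :
    compLabel μ (Fin.cast hμ (finSigmaFinEquiv k)) = k.1.val := by
  have hval : ((Fin.cast hμ (finSigmaFinEquiv k)) : ℕ) = ∑ i ∈ Iio k.1, μ i + k.2.val := by
    rw [Fin.val_cast, finSigmaFinEquiv_apply]
    congr 1
    refine sum_bij (fun a _ => Fin.castLE k.1.2.le a) ?_ ?_ ?_ ?_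
    · intro a _; simp [Fin.lt_def]
    · intro a _ b _ h; exact Fin.castLE_injective _ h
    · intro b hb; exact ⟨⟨b.val, Fin.lt_def.1 (mem_Iio.1 hb)⟩, mem_univ _, Fin.ext rfl⟩
    · intros; rfl
  refine compLabel_of_mem (by omega) ?_
  rw [hval, ← Iio_insert, sum_insert (by simp)]
  omega

theorem compLabel_monotone (μ : Fin n → ℕ) : Monotone (compLabel μ) := by
  intro a b hab
  refine card_le_card ?_
  intro j hj
  simp only [mem_filter, mem_univ, true_and] at hj ⊢
  exact le_trans hj hab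

theorem compLabel_lt {μ : Fin n → ℕ} (hμ : ∑ i, μ i = n) (i : Fin n) : compLabel μ i < n := by
  obtain ⟨k, hk⟩ := finSigmaFinEquiv.surjective (Fin.cast hμ.symm i)
  have : i = Fin.cast hμ (finSigmaFinEquiv k) := by rw [hk]; rfl
  rw [this, compLabel_sigma hμ]
  exact k.1.isLt

theorem card_compLabel_fiber {μ : Fin n → ℕ} (hμ : ∑ i, μ i = n) (j : Fin n) :
    Nat.card {i : Fin n // compLabel μ i = j.val} = μ j := by
  let e : ((j : Fin n) × Fin (μ j)) ≃ Fin n := finSigmaFinEquiv.trans (finCongr hμ)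
  have h1 : {i : Fin n // compLabel μ i = j.val} ≃ {k : (j : Fin n) × Fin (μ j) // k.1 = j} :=
    (e.subtypeEquiv fun k => by
      change k.1 = j ↔ compLabel μ (Fin.cast hμ (finSigmaFinEquiv k)) = j.val
      rw [compLabel_sigma hμ, Fin.ext_iff]).symm
  rw [Nat.card_congr (h1.trans (Equiv.sigmaSubtype j)), Nat.card_fin]

/-- The label, as an element of `Fin n`. -/
def lab {μ : Fin n → ℕ} (hμ : ∑ i, μ i = n) (i : Fin n) : Fin n := ⟨compLabel μ i, compLabel_lt hμ i⟩

theorem card_lab_fiber {μ : Fin n → ℕ} (hμ : ∑ i, μ i = n) (j : Fin n) :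
    Nat.card {i : Fin n // lab hμ i = j} = μ j := by
  rw [← card_compLabel_fiber hμ j]
  exact Nat.card_congr (Equiv.subtypeEquivRight fun i => Fin.ext_iff)

theorem mem_young {μ : Fin n → ℕ} (hμ : ∑ i, μ i = n) (σ : Equiv.Perm (Fin n)) :
    σ ∈ youngSubgroup μ ↔ ∀ i, lab hμ (σ i) = lab hμ i :=
  ⟨fun h i => Fin.ext (h i), fun h i => congrArg Fin.val (h i)⟩

variable {α β : Fin n → ℕ} (hα : ∑ i, α i = n) (hβ : ∑ i, β i = n)

/-- The relative position matrix of a permutation. -/
noncomputable def relMatrix (w : Equiv.Perm (Fin n)) (a b : Fin n) : ℕ :=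
  Nat.card {i : Fin n // lab hα (w i) = a ∧ lab hβ i = b}

theorem relMatrix_young {h k w : Equiv.Perm (Fin n)} (hh : h ∈ youngSubgroup α) (hk : k ∈ youngSubgroup β) :
    relMatrix hα hβ (h * w * k) = relMatrix hα hβ w := by
  funext a b
  refine Nat.card_congr (k.subtypeEquiv fun i => ?_)
  simp only [Equiv.Perm.mul_apply]
  rw [(mem_young hα h).1 hh, (mem_young hβ k).1 hk]

theorem exists_of_relMatrix_eq {w w' : Equiv.Perm (Fin n)}
    (e : relMatrix hα hβ w = relMatrix hα hβ w') :
    ∃ h ∈ youngSubgroup α, ∃ k ∈ youngSubgroup β, w' = h * w * k := by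
  let f : Fin n → Fin n × Fin n := fun i => (lab hα (w' i), lab hβ i)
  let g : Fin n → Fin n × Fin n := fun i => (lab hα (w i), lab hβ i)
  have hfib : ∀ c, Nat.card {i // f i = c} = Nat.card {i // g i = c} := by
    intro c
    have := congrFun (congrFun e c.1) c.2
    simp only [relMatrix] at this
    rw [← Nat.card_congr (Equiv.subtypeEquivRight (fun i => (Prod.ext_iff (x := g i) (y := c)).symm)),
      ← Nat.card_congr (Equiv.subtypeEquivRight (fun i => (Prod.ext_iff (x := f i) (y := c)).symm))]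
    exact this.symm
  let k : Equiv.Perm (Fin n) := Equiv.ofFiberEquiv (fun c => (Finite.card_eq.1 (hfib c)).some)
  have hk : ∀ i, g (k i) = f i := fun i => Equiv.ofFiberEquiv_map _ i
  refine ⟨w' * k⁻¹ * w⁻¹, ?_, k, ?_, by simp [mul_assoc]⟩
  · rw [mem_young hα]
    intro i
    have := congrArg Prod.fst (hk (k⁻¹ (w⁻¹ i)))
    simp [f, g] at this
    simpa using this.symm
  · rw [mem_young hβ]
    exact fun i => congrArg Prod.snd (hk i)

theorem margins_relMatrix (w : Equiv.Perm (Fin n)) :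
    (∀ a, ∑ b, relMatrix hα hβ w a b = α a) ∧ ∀ b, ∑ a, relMatrix hα hβ w a b = β b := by
  classical
  constructor
  · intro a
    rw [← card_lab_fiber hα a, ← Nat.card_congr (w.subtypeEquiv (fun i => Iff.rfl) :
      {i // lab hα (w i) = a} ≃ {i // lab hα i = a})]
    simp only [relMatrix, Nat.card_eq_fintype_card, Fintype.card_subtype]
    rw [card_eq_sum_card_fiberwise (f := lab hβ) (t := univ) (by simp)]
    simp [filter_filter]
  · intro b
    rw [← card_lab_fiber hβ b]
    simp only [relMatrix, Nat.card_eq_fintype_card, Fintype.card_subtype]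
    rw [card_eq_sum_card_fiberwise (f := fun i => lab hα (w i)) (t := univ) (by simp)]
    simp [filter_filter, and_comm]

include hα hβ in
theorem exists_relMatrix {M : Fin n → Fin n → ℕ} (hr : ∀ a, ∑ b, M a b = α a)
    (hc : ∀ b, ∑ a, M a b = β b) : ∃ w, relMatrix hα hβ w = M := by
  classical
  let X := (p : Fin n × Fin n) × Fin (M p.1 p.2)
  have f1 : ∀ a, Nat.card {i : X // i.1.1 = a} = Nat.card {i : Fin n // lab hα i = a} := by
    intro a
    rw [card_lab_fiber, ← hr a]
    rw [Nat.card_congr (show {i : X // i.1.1 = a} ≃ (b : Fin n) × Fin (M a b) from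
      { toFun := fun x => ⟨x.1.1.2, Fin.cast (congrArg (fun t => M t x.1.1.2) x.2) x.1.2⟩
        invFun := fun x => ⟨⟨(a, x.1), x.2⟩, rfl⟩
        left_inv := by rintro ⟨⟨⟨a', b'⟩, r⟩, h⟩; simp only at h; subst h; rfl
        right_inv := by rintro ⟨b, r⟩; rfl }), Nat.card_sigma]
    simp
  have f2 : ∀ b, Nat.card {i : X // i.1.2 = b} = Nat.card {i : Fin n // lab hβ i = b} := by
    intro b
    rw [card_lab_fiber, ← hc b]
    rw [Nat.card_congr (show {i : X // i.1.2 = b} ≃ (a : Fin n) × Fin (M a b) from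
      { toFun := fun x => ⟨x.1.1.1, Fin.cast (congrArg (fun t => M x.1.1.1 t) x.2) x.1.2⟩
        invFun := fun x => ⟨⟨(x.1, b), x.2⟩, rfl⟩
        left_inv := by rintro ⟨⟨⟨a', b'⟩, r⟩, h⟩; simp only at h; subst h; rfl
        right_inv := by rintro ⟨a, r⟩; rfl }), Nat.card_sigma]
    simp
  let e1 : X ≃ Fin n := Equiv.ofFiberEquiv (fun a => (Finite.card_eq.1 (f1 a)).some)
  let e2 : X ≃ Fin n := Equiv.ofFiberEquiv (fun b => (Finite.card_eq.1 (f2 b)).some)
  have h1 : ∀ x, lab hα (e1 x) = x.1.1 := fun x => Equiv.ofFiberEquiv_map _ x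
  have h2 : ∀ x, lab hβ (e2 x) = x.1.2 := fun x => Equiv.ofFiberEquiv_map _ x
  refine ⟨e2.symm.trans e1, funext fun a => funext fun b => ?_⟩
  calc relMatrix hα hβ (e2.symm.trans e1) a b = Nat.card {x : X // x.1 = (a, b)} :=
        Nat.card_congr (e2.subtypeEquiv fun x => by simp [h1, h2, Prod.ext_iff]).symm
    _ = M a b := by
      rw [Nat.card_congr (Equiv.sigmaSubtype (a, b)), Nat.card_fin]

include hα hβ in
theorem young_dosets_card :
    Nat.card (DoubleCoset.Quotient (youngSubgroup α : Set (Equiv.Perm (Fin n))) (youngSubgroup β : Set _)) =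
      marginCount α β := by
  refine Nat.card_congr (Equiv.ofBijective (fun d => Quotient.liftOn' d
    (fun w => (⟨relMatrix hα hβ w, margins_relMatrix hα hβ w⟩ :
      {M : Fin n → Fin n → ℕ // (∀ a, ∑ b, M a b = α a) ∧ ∀ b, ∑ a, M a b = β b})) ?_) ⟨?_, ?_⟩)
  · intro w w' h
    obtain ⟨a, ha, b, hb, rfl⟩ := DoubleCoset.rel_iff.1 h
    exact Subtype.ext (relMatrix_young hα hβ ha hb).symm
  · intro x y
    induction x using Quotient.inductionOn' with
    | h a =>
    induction y using Quotient.inductionOn' with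
    | h b =>
      intro e
      obtain ⟨h, hh, k, hk, hb'⟩ := exists_of_relMatrix_eq hα hβ (congrArg Subtype.val e)
      exact Quotient.sound' (DoubleCoset.rel_iff.2 ⟨h, hh, k, hk, hb'⟩)
  · rintro ⟨M, hr, hc⟩
    obtain ⟨w, hw⟩ := exists_relMatrix hα hβ hr hc
    exact ⟨Quotient.mk'' w, Subtype.ext hw⟩

end Cfsg.Agent.GLFlag
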