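/-
Bruhat decomposition of `GL (Fin n) F` and double cosets of standard parabolics.
* `permGL` : permutation matrices as a homomorphism
* `exists_bruhat` : every element is `b * permGL w * b'` with `b`, `b'` upper triangular
* `permGL_mem_parabolic`, `upper_le_parabolic`
* `parabolic_dosets_card` : `Nat.card (P_α \ GL_n / P_β) = marginCount α β`
-/
import Cfsg.Agent.Lib.GLFlag.Young

set_option autoImplicit false

namespace Cfsg.Agent.GLFlag

open Cfsg Finset

variable {n : ℕ} {F : Type*} [Field F]

/-- Permutation matrix sending `e j` to `e (w j)`. -/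
def permMat (F : Type*) [Field F] (w : Equiv.Perm (Fin n)) : Matrix (Fin n) (Fin n) F :=
  Matrix.of fun i j => if i = w j then 1 else 0

theorem permMat_mul (v w : Equiv.Perm (Fin n)) : permMat F v * permMat F w = permMat F (v * w) := by
  ext i j
  simp [permMat, Matrix.mul_apply]
  congr

theorem permMat_one : permMat F (1 : Equiv.Perm (Fin n)) = 1 := by
  ext i j
  simp [permMat, Matrix.one_apply]
  congr

/-- Permutation matrices in `GL`. -/
def permGL (F : Type*) [Field F] : Equiv.Perm (Fin n) →* GL (Fin n) F :=
  MonoidHom.toHomUnits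
    { toFun := permMat F
      map_one' := permMat_one
      map_mul' := fun v w => (permMat_mul v w).symm }

theorem permGL_apply (w : Equiv.Perm (Fin n)) (i j : Fin n) :
    (permGL F w : Matrix (Fin n) (Fin n) F) i j = if i = w j then 1 else 0 := rfl

theorem permGL_mulVec (w : Equiv.Perm (Fin n)) (v : Fin n → F) (i : Fin n) :
    Matrix.mulVec (permGL F w : Matrix (Fin n) (Fin n) F) v i = v (w⁻¹ i) := by
  simp only [Matrix.mulVec, dotProduct, permGL_apply]
  rw [Fintype.sum_eq_single (w⁻¹ i)]
  · simp
  · intro b hb
    rw [if_neg, zero_mul]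
    rintro rfl
    simp at hb

theorem permGL_mem_parabolic {μ : Fin n → ℕ} {σ : Equiv.Perm (Fin n)} (h : σ ∈ youngSubgroup μ) :
    permGL F σ ∈ parabolicGL n F μ := by
  intro i j hij
  rw [permGL_apply, if_neg]
  rintro rfl
  exact (h j ▸ hij).false

theorem upper_le_parabolic (μ : Fin n → ℕ) : upperTriangularGL n F ≤ parabolicGL n F μ := by
  intro g hg i j hij
  refine hg ?_
  by_contra h
  exact absurd (compLabel_monotone μ (not_lt.1 h)) (not_le.2 hij)

/-- `1` with column `k` replaced by `u`. -/
def colMat (k : Fin n) (u : Fin n → F) : Matrix (Fin n) (Fin n) F :=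
  (1 : Matrix (Fin n) (Fin n) F).updateCol k u

theorem colMat_triangular {k : Fin n} {u : Fin n → F} (hu : ∀ i, k < i → u i = 0) :
    (colMat k u).BlockTriangular id := by
  intro i j hij
  simp only [id] at hij
  simp only [colMat, Matrix.updateCol_apply]
  split_ifs with h
  · exact hu i (h ▸ hij)
  · exact Matrix.one_apply_ne hij.ne'

theorem colMat_det {k : Fin n} {u : Fin n → F} (hu : ∀ i, k < i → u i = 0) : (colMat k u).det = u k := by
  rw [Matrix.det_of_upperTriangular (colMat_triangular hu), Fintype.prod_eq_single k]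
  · simp [colMat]
  · intro i hi
    simp [colMat, Matrix.updateCol_apply, hi]

theorem colMat_mulVec_single {k m : Fin n} (u : Fin n → F) :
    Matrix.mulVec (colMat k u) (Pi.single m 1) = if m = k then u else Pi.single m 1 := by
  rw [Matrix.mulVec_single_one]
  ext i
  split_ifs with h
  · subst h; simp [colMat]
  · simp [colMat, Matrix.updateCol_apply, h, Matrix.one_apply, Pi.single_apply]

/-- Bruhat decomposition. -/
theorem exists_bruhat (g : GL (Fin n) F) :
    ∃ b ∈ upperTriangularGL n F, ∃ w : Equiv.Perm (Fin n), ∃ b' ∈ upperTriangularGL n F,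
      g = b * permGL F w * b' := by
  classical
  suffices H : ∀ k, k ≤ n → ∃ b ∈ upperTriangularGL n F, ∃ b' ∈ upperTriangularGL n F, ∃ p : Fin n → Fin n,
      ∀ m : Fin n, m.val < k →
        Matrix.mulVec ((b * g * b' : GL (Fin n) F) : Matrix (Fin n) (Fin n) F) (Pi.single m 1) =
          Pi.single (p m) 1 by
    obtain ⟨b, hb, b', hb', p, hp⟩ := H n le_rfl
    have hinj : Function.Injective p := by
      intro x y hxy
      have h := congrArg (Matrix.mulVec (((b * g * b')⁻¹ : GL (Fin n) F) : Matrix (Fin n) (Fin n) F))
        (((hp x x.isLt).trans (by rw [hxy])).trans (hp y y.isLt).symm)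
      rw [Matrix.mulVec_mulVec, Matrix.mulVec_mulVec, ← Units.val_mul, inv_mul_cancel, Units.val_one,
        Matrix.one_mulVec, Matrix.one_mulVec] at h
      by_contra hne
      simpa [Pi.single_apply, hne] using congrFun h x
    let w : Equiv.Perm (Fin n) := Equiv.ofBijective p hinj.bijective_of_finite
    refine ⟨b⁻¹, inv_mem hb, w, b'⁻¹, inv_mem hb', ?_⟩
    have hw : b * g * b' = permGL F w := by
      apply Units.ext
      ext i m
      have := congrFun (hp m m.isLt) i
      rw [Matrix.mulVec_single_one, Matrix.col_apply] at this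
      rw [this, permGL_apply, Pi.single_apply]
      rfl
    rw [← hw]
    simp [mul_assoc]
  intro k
  induction k with
  | zero => intro _; exact ⟨1, one_mem _, 1, one_mem _, id, fun m hm => absurd hm (Nat.not_lt_zero _)⟩
  | succ k ih =>
    intro hk
    obtain ⟨b, hb, b', hb', p, hp⟩ := ih (by omega)
    set A : Matrix (Fin n) (Fin n) F := ((b * g * b' : GL (Fin n) F) : Matrix (Fin n) (Fin n) F) with hA
    set K : Fin n := ⟨k, by omega⟩ with hK
    set P := univ.filter (fun m : Fin n => m.val < k) with hP
    set c : Fin n → F := fun i => if i = K then 1 else if i.val < k then -(A (p i) K) else 0 with hc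
    have hc0 : ∀ i, K < i → c i = 0 := fun i hi => by
      have h2 : k < i.val := hi
      simp only [hc]
      rw [if_neg hi.ne', if_neg (by omega)]
    have hcK : c K = 1 := by simp [hc]
    let N : GL (Fin n) F := Matrix.GeneralLinearGroup.mk'' (colMat K c)
      (by rw [colMat_det hc0, hcK]; exact isUnit_one)
    have hN : N ∈ upperTriangularGL n F := colMat_triangular hc0
    have hinjA : Function.Injective (Matrix.mulVec A) := fun x y hxy => by
      have h := congrArg (Matrix.mulVec (((b * g * b')⁻¹ : GL (Fin n) F) : Matrix (Fin n) (Fin n) F)) hxy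
      rw [hA, Matrix.mulVec_mulVec, Matrix.mulVec_mulVec, ← Units.val_mul, inv_mul_cancel, Units.val_one,
        Matrix.one_mulVec, Matrix.one_mulVec] at h
      exact h
    have hpinj : ∀ x y : Fin n, x.val < k → y.val < k → p x = p y → x = y := by
      intro x y hx hy hxy
      have := hinjA (((hp x hx).trans (by rw [hxy])).trans (hp y hy).symm)
      by_contra hne
      simpa [Pi.single_apply, hne] using congrFun this x
    set v := Matrix.mulVec A c with hv
    have hvform : ∀ i, v i = A i K + ∑ m ∈ P, (if i = p m then -(A (p m) K) else 0) := by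
      intro i
      have hc' : c = Pi.single K 1 + ∑ m ∈ P, (-(A (p m) K)) • (Pi.single m 1 : Fin n → F) := by
        funext j
        simp only [Pi.add_apply, Finset.sum_apply, Pi.smul_apply, Pi.single_apply, smul_eq_mul, mul_ite,
          mul_one, mul_zero, Finset.sum_ite_eq]
        by_cases hj : j = K
        · subst hj; simp [hc, hP, hK]
        · simp [hc, hP, hj]
      rw [hv, hc', Matrix.mulVec_add, Matrix.mulVec_sum, Pi.add_apply, Finset.sum_apply,
        Matrix.mulVec_single_one, Matrix.col_apply]
      congr 1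
      refine sum_congr rfl fun m hm => ?_
      rw [Matrix.mulVec_smul, hp m (by simpa [hP] using hm), Pi.smul_apply, Pi.single_apply]
      simp
    have hvp : ∀ m : Fin n, m.val < k → v (p m) = 0 := by
      intro m hm
      rw [hvform, sum_eq_single m]
      · simp
      · intro m' hm' hne
        rw [if_neg fun e => hne (hpinj _ _ (by simpa [hP] using hm') hm e.symm)]
      · intro h; exact absurd (by simpa [hP] using hm) h
    have hv0 : v ≠ 0 := by
      intro h
      have h0 : Matrix.mulVec A c = Matrix.mulVec A 0 := by rw [← hv, h, Matrix.mulVec_zero]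
      simpa [hcK] using congrFun (hinjA h0) K
    have hS : (univ.filter fun i => v i ≠ 0).Nonempty := by
      by_contra h
      exact hv0 (funext fun i => by_contra fun hi => h ⟨i, by simpa using hi⟩)
    set r := (univ.filter fun i => v i ≠ 0).max' hS with hr
    have hvr : v r ≠ 0 := by
      have := (univ.filter fun i => v i ≠ 0).max'_mem hS
      simpa using this
    have hvabove : ∀ i, r < i → v i = 0 := fun i hi => by
      by_contra h
      exact absurd (le_max' _ i (by simpa using h)) (not_le.2 hi)
    let M : GL (Fin n) F := Matrix.GeneralLinearGroup.mk'' (colMat r v)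
      (by rw [colMat_det hvabove]; exact hvr.isUnit)
    have hM : M ∈ upperTriangularGL n F := colMat_triangular hvabove
    refine ⟨M⁻¹ * b, mul_mem (inv_mem hM) hb, b' * N, mul_mem hb' hN,
      fun i => if i = K then r else p i, ?_⟩
    intro m hm
    have e : ((M⁻¹ * b * g * (b' * N) : GL (Fin n) F) : Matrix (Fin n) (Fin n) F) =
        ((M⁻¹ : GL (Fin n) F) : Matrix (Fin n) (Fin n) F) * (A * colMat K c) := by
      rw [show M⁻¹ * b * g * (b' * N) = M⁻¹ * ((b * g * b') * N) by simp [mul_assoc], Units.val_mul,
        Units.val_mul, hA]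
      rfl
    have hfix : ∀ i, ∀ u : Fin n → F, Matrix.mulVec (M : Matrix (Fin n) (Fin n) F) (Pi.single i 1) = u →
        Matrix.mulVec ((M⁻¹ : GL (Fin n) F) : Matrix (Fin n) (Fin n) F) u = Pi.single i 1 := by
      rintro i u rfl
      rw [Matrix.mulVec_mulVec, ← Units.val_mul, inv_mul_cancel, Units.val_one, Matrix.one_mulVec]
    rw [e, ← Matrix.mulVec_mulVec, ← Matrix.mulVec_mulVec, colMat_mulVec_single]
    by_cases hmk : m = K
    · simp only [hmk, if_true]
      refine hfix r v ?_
      exact (colMat_mulVec_single v).trans (if_pos rfl)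
    · have hm' : m.val < k := by
        have : m.val ≠ k := fun h => hmk (Fin.ext h)
        omega
      simp only [if_neg hmk]
      rw [hp m hm']
      refine hfix _ _ ?_
      refine (colMat_mulVec_single v).trans (if_neg fun e => hvr ?_)
      rw [← e]
      exact hvp m hm'

variable [Finite F] {α β : Fin n → ℕ}

/-- Number of vectors supported by label `< a` whose preimage is supported by label `< b`. -/
noncomputable def posCount (α β : Fin n → ℕ) (g : GL (Fin n) F) (a b : ℕ) : ℕ :=
  Nat.card {v : Fin n → F // (∀ i, a ≤ compLabel α i → v i = 0) ∧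
    ∀ i, b ≤ compLabel β i → Matrix.mulVec ((g⁻¹ : GL (Fin n) F) : Matrix (Fin n) (Fin n) F) v i = 0}

theorem parabolic_supp {μ : Fin n → ℕ} {g : GL (Fin n) F} (hg : g ∈ parabolicGL n F μ) {v : Fin n → F}
    {a : ℕ} (hv : ∀ i, a ≤ compLabel μ i → v i = 0) :
    ∀ i, a ≤ compLabel μ i → Matrix.mulVec (g : Matrix (Fin n) (Fin n) F) v i = 0 := by
  intro i hi
  simp only [Matrix.mulVec, dotProduct]
  refine sum_eq_zero fun j _ => ?_
  by_cases hj : a ≤ compLabel μ j
  · rw [hv j hj, mul_zero]
  · rw [show (g : Matrix (Fin n) (Fin n) F) i j = 0 from hg (by omega), zero_mul]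

theorem posCount_invariant {p p' : GL (Fin n) F} (hp : p ∈ parabolicGL n F α) (hp' : p' ∈ parabolicGL n F β)
    (g : GL (Fin n) F) (a b : ℕ) : posCount α β (p * g * p') a b = posCount α β g a b := by
  symm
  refine Nat.card_congr
    { toFun := fun v => ⟨Matrix.mulVec (p : Matrix (Fin n) (Fin n) F) v.1, parabolic_supp hp v.2.1, ?_⟩
      invFun := fun v => ⟨Matrix.mulVec ((p⁻¹ : GL (Fin n) F) : Matrix (Fin n) (Fin n) F) v.1,
        parabolic_supp (inv_mem hp) v.2.1, ?_⟩
      left_inv := fun v => ?_
      right_inv := fun v => ?_ }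
  · rw [Matrix.mulVec_mulVec, ← Units.val_mul,
      show (p * g * p')⁻¹ * p = p'⁻¹ * g⁻¹ by simp [mul_assoc], Units.val_mul, ← Matrix.mulVec_mulVec]
    exact parabolic_supp (inv_mem hp') v.2.2
  · rw [Matrix.mulVec_mulVec, ← Units.val_mul,
      show g⁻¹ * p⁻¹ = p' * (p * g * p')⁻¹ by simp [mul_assoc], Units.val_mul, ← Matrix.mulVec_mulVec]
    exact parabolic_supp hp' v.2.2
  · exact Subtype.ext (by simp [Matrix.mulVec_mulVec, ← Units.val_mul])
  · exact Subtype.ext (by simp [Matrix.mulVec_mulVec, ← Units.val_mul])

theorem card_supported (P : Fin n → Prop) [DecidablePred P] :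
    Nat.card {v : Fin n → F // ∀ i, ¬ P i → v i = 0} = Nat.card F ^ Nat.card {i // P i} := by
  rw [← Nat.card_fun]
  exact Nat.card_congr
    { toFun := fun v i => v.1 i.1
      invFun := fun f => ⟨fun i => if h : P i then f ⟨i, h⟩ else 0, fun i hi => dif_neg hi⟩
      left_inv := fun v => Subtype.ext (funext fun i => by
        by_cases h : P i
        · simp [h]
        · simp [h, v.2 i h])
      right_inv := fun f => funext fun i => by simp [i.2] }

theorem posCount_perm (w : Equiv.Perm (Fin n)) (a b : ℕ) :
    posCount α β (permGL F w) a b =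
      Nat.card F ^ Nat.card {i : Fin n // compLabel α (w i) < a ∧ compLabel β i < b} := by
  have h : ∀ v : Fin n → F, ((∀ i, a ≤ compLabel α i → v i = 0) ∧
      ∀ i, b ≤ compLabel β i →
        Matrix.mulVec (((permGL F w)⁻¹ : GL (Fin n) F) : Matrix (Fin n) (Fin n) F) v i = 0) ↔
      ∀ i, ¬ (compLabel α i < a ∧ compLabel β (w⁻¹ i) < b) → v i = 0 := by
    intro v
    simp only [← map_inv, permGL_mulVec, inv_inv]
    constructor
    · rintro ⟨h1, h2⟩ i hi
      by_cases ha : a ≤ compLabel α i
      · exact h1 i ha
      · have := h2 (w⁻¹ i) (by omega)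
        simpa using this
    · intro h
      exact ⟨fun i hi => h i (by omega), fun i hi => h (w i) (by simp; omega)⟩
  rw [posCount, Nat.card_congr (Equiv.subtypeEquivRight h), card_supported]
  congr 1
  exact Nat.card_congr (w.subtypeEquiv fun i => by simp).symm

theorem relMatrix_eq_of_posCount (hα : ∑ i, α i = n) (hβ : ∑ i, β i = n) {w w' : Equiv.Perm (Fin n)}
    (h : ∀ a b, posCount α β (permGL F w) a b = posCount α β (permGL F w') a b) :
    relMatrix hα hβ w = relMatrix hα hβ w' := by
  classical
  have key : ∀ a b, Nat.card {i : Fin n // compLabel α (w i) < a ∧ compLabel β i < b} =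
      Nat.card {i : Fin n // compLabel α (w' i) < a ∧ compLabel β i < b} := fun a b => by
    have := h a b
    rw [posCount_perm, posCount_perm] at this
    exact Nat.pow_right_injective Finite.one_lt_card this
  have split : ∀ (u : Equiv.Perm (Fin n)) (a b : ℕ),
      Nat.card {i : Fin n // compLabel α (u i) < a + 1 ∧ compLabel β i < b + 1} +
        Nat.card {i : Fin n // compLabel α (u i) < a ∧ compLabel β i < b} =
      Nat.card {i : Fin n // compLabel α (u i) < a + 1 ∧ compLabel β i < b} +
        Nat.card {i : Fin n // compLabel α (u i) < a ∧ compLabel β i < b + 1} +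
        Nat.card {i : Fin n // compLabel α (u i) = a ∧ compLabel β i = b} := by
    intro u a b
    simp only [Nat.card_eq_fintype_card, Fintype.card_subtype]
    simp only [Finset.card_filter, ← sum_add_distrib]
    refine sum_congr rfl fun i _ => ?_
    split_ifs <;> omega
  funext a b
  have e : ∀ u : Equiv.Perm (Fin n), relMatrix hα hβ u a b =
      Nat.card {i : Fin n // compLabel α (u i) = a.val ∧ compLabel β i = b.val} := fun u =>
    Nat.card_congr (Equiv.subtypeEquivRight fun i => by simp [lab, Fin.ext_iff])
  rw [e, e]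
  have h1 := split w a b
  have h2 := split w' a b
  simp only [key] at h1
  omega

theorem parabolic_dosets_card (hα : ∑ i, α i = n) (hβ : ∑ i, β i = n) :
    Nat.card (DoubleCoset.Quotient (parabolicGL n F α : Set (GL (Fin n) F)) (parabolicGL n F β : Set _)) =
      marginCount α β := by
  rw [← young_dosets_card hα hβ]
  symm
  refine Nat.card_congr (Equiv.ofBijective (fun d => Quotient.liftOn' d
    (fun w => (Quotient.mk'' (permGL F w) :
      DoubleCoset.Quotient (parabolicGL n F α : Set (GL (Fin n) F)) (parabolicGL n F β : Set _))) ?_) ⟨?_, ?_⟩)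
  · intro w w' h
    obtain ⟨a, ha, b, hb, rfl⟩ := DoubleCoset.rel_iff.1 h
    exact Quotient.sound' (DoubleCoset.rel_iff.2
      ⟨_, permGL_mem_parabolic ha, _, permGL_mem_parabolic hb, by simp⟩)
  · intro x y
    induction x using Quotient.inductionOn' with
    | h a =>
    induction y using Quotient.inductionOn' with
    | h b =>
      intro e
      obtain ⟨p, hp, p', hp', hb⟩ := DoubleCoset.rel_iff.1 (Quotient.exact' e)
      have hpos : ∀ s t, posCount α β (permGL F a) s t = posCount α β (permGL F b) s t := fun s t => by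
        rw [hb, posCount_invariant hp hp']
      obtain ⟨h, hh, k, hk, hb'⟩ :=
        exists_of_relMatrix_eq hα hβ (relMatrix_eq_of_posCount hα hβ hpos)
      exact Quotient.sound' (DoubleCoset.rel_iff.2 ⟨h, hh, k, hk, hb'⟩)
  · intro q
    induction q using Quotient.inductionOn' with
    | h g =>
      obtain ⟨b, hb, w, b', hb', rfl⟩ := exists_bruhat g
      exact ⟨Quotient.mk'' w, Quotient.sound' (DoubleCoset.rel_iff.2
        ⟨b, upper_le_parabolic α hb, b', upper_le_parabolic β hb', rfl⟩)⟩

end Cfsg.Agent.GLFlag
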