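/-
Orders and indices of standard parabolic subgroups of `GL (Fin n) F`.
* `qFac`, `qInt` : q-factorial and q-integer
* `card_parabolic`, `index_parabolic_mul` : `[GL_n : P_μ] * ∏ qFac (μ i) = qFac n`
-/
import Cfsg.Agent.Lib.GLFlag.Young
import Cfsg.Agent.Lib.GLOrder.Basic

set_option autoImplicit false

namespace Cfsg.Agent.GLFlag

open Cfsg Finset

/-- `1 + q + ⋯ + q ^ (r - 1)`. -/
def qInt (q r : ℕ) : ℕ := ∑ l ∈ range r, q ^ l

/-- `qInt q 1 * ⋯ * qInt q r`. -/
def qFac (q r : ℕ) : ℕ := ∏ j ∈ range r, qInt q (j + 1)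

theorem qInt_pos {q : ℕ} (hq : 0 < q) (j : ℕ) : 0 < qInt q (j + 1) :=
  sum_pos (fun l _ => pow_pos hq l) (by simp)

theorem qFac_pos {q : ℕ} (hq : 0 < q) (r : ℕ) : 0 < qFac q r :=
  prod_pos fun j _ => qInt_pos hq j

variable {n : ℕ} {F : Type*} [Field F] [Finite F]

theorem card_GL_eq_qFac (m : ℕ) :
    Nat.card (GL (Fin m) F) =
      Nat.card F ^ (m * (m - 1) / 2) * (Nat.card F - 1) ^ m * qFac (Nat.card F) m := by
  rw [GLOrder.card_GL', mul_assoc]
  congr 1
  rw [qFac, show ((Nat.card F - 1) ^ m = ∏ _j ∈ range m, (Nat.card F - 1)) by simp, ← prod_mul_distrib]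
  refine prod_congr rfl fun j _ => ?_
  have h1 : 1 ≤ Nat.card F := Nat.card_pos
  obtain ⟨t, ht⟩ : ∃ t, Nat.card F = t + 1 := ⟨Nat.card F - 1, by omega⟩
  rw [ht, Nat.add_sub_cancel, qInt]
  have := geom_sum_mul_add t (j + 1)
  rw [mul_comm]
  omega

variable {μ : Fin n → ℕ} (hμ : ∑ i, μ i = n)

omit [Finite F] in
theorem mem_parabolic_iff (g : GL (Fin n) F) :
    g ∈ parabolicGL n F μ ↔ (g : Matrix (Fin n) (Fin n) F).BlockTriangular (lab hμ) :=
  ⟨fun h i j hij => h (show compLabel μ j < compLabel μ i from hij), fun h i j hij => h (show lab hμ j < lab hμ i from hij)⟩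

/-- Assemble a block triangular matrix. -/
def assemble (d : ∀ a, GL {i : Fin n // lab hμ i = a} F)
    (u : {p : Fin n × Fin n // lab hμ p.1 < lab hμ p.2} → F) : Matrix (Fin n) (Fin n) F :=
  Matrix.of fun i j =>
    if h : lab hμ i = lab hμ j then
      (d (lab hμ j) : Matrix {i : Fin n // lab hμ i = lab hμ j} {i : Fin n // lab hμ i = lab hμ j} F) ⟨i, h⟩ ⟨j, rfl⟩
    else if h' : lab hμ i < lab hμ j then u ⟨(i, j), h'⟩ else 0

omit [Finite F] in
theorem assemble_block (d : ∀ a, GL {i : Fin n // lab hμ i = a} F)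
    (u : {p : Fin n × Fin n // lab hμ p.1 < lab hμ p.2} → F) (a : Fin n) :
    (assemble hμ d u).toSquareBlock (lab hμ) a = (d a : Matrix _ _ F) := by
  ext ⟨i, hi⟩ ⟨j, hj⟩
  subst hj
  simp [assemble, Matrix.toSquareBlock_def, hi]

omit [Finite F] in
theorem assemble_triangular (d : ∀ a, GL {i : Fin n // lab hμ i = a} F)
    (u : {p : Fin n × Fin n // lab hμ p.1 < lab hμ p.2} → F) :
    (assemble hμ d u).BlockTriangular (lab hμ) := by
  intro i j hij
  simp only [assemble, Matrix.of_apply]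
  rw [dif_neg hij.ne', dif_neg (not_lt.2 hij.le)]

omit [Finite F] in
theorem block_isUnit {M : Matrix (Fin n) (Fin n) F} (hM : M.BlockTriangular (lab hμ)) (h : IsUnit M.det)
    (a : Fin n) : IsUnit (M.toSquareBlock (lab hμ) a).det := by
  rw [hM.det_fintype, IsUnit.prod_univ_iff] at h
  exact h a

/-- The standard parabolic as blocks. -/
noncomputable def parabolicEquiv : parabolicGL n F μ ≃
    (∀ a, GL {i : Fin n // lab hμ i = a} F) × ({p : Fin n × Fin n // lab hμ p.1 < lab hμ p.2} → F) where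
  toFun g := (fun a => Matrix.GeneralLinearGroup.mk'' _ (block_isUnit hμ ((mem_parabolic_iff hμ _).1 g.2)
      ((Matrix.isUnit_iff_isUnit_det _).1 g.1.isUnit) a),
    fun p => (g.1 : Matrix (Fin n) (Fin n) F) p.1.1 p.1.2)
  invFun du := ⟨Matrix.GeneralLinearGroup.mk'' (assemble hμ du.1 du.2) (by
      rw [(assemble_triangular hμ du.1 du.2).det_fintype, IsUnit.prod_univ_iff]
      intro a
      rw [assemble_block]
      exact (Matrix.isUnit_iff_isUnit_det _).1 (du.1 a).isUnit),
    (mem_parabolic_iff hμ _).2 (assemble_triangular hμ du.1 du.2)⟩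
  left_inv g := by
    apply Subtype.ext; apply Units.ext
    ext i j
    show assemble hμ _ _ i j = _
    simp only [assemble, Matrix.of_apply]
    split_ifs with h h'
    · rfl
    · rfl
    · exact ((mem_parabolic_iff hμ _).1 g.2 (lt_of_le_of_ne (not_lt.1 h') (Ne.symm h))).symm
  right_inv du := by
    refine Prod.ext (funext fun a => Units.ext (assemble_block hμ du.1 du.2 a)) (funext fun p => ?_)
    show assemble hμ _ _ p.1.1 p.1.2 = _
    simp only [assemble, Matrix.of_apply]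
    rw [dif_neg p.2.ne, dif_pos p.2]

omit [Finite F] in
theorem card_GL_fiber (a : Fin n) :
    Nat.card (GL {i : Fin n // lab hμ i = a} F) = Nat.card (GL (Fin (μ a)) F) := by
  let e : {i : Fin n // lab hμ i = a} ≃ Fin (μ a) :=
    Finite.equivFinOfCardEq (card_lab_fiber hμ a)
  exact Nat.card_congr (Units.mapEquiv (Matrix.reindexAlgEquiv F F e).toRingEquiv.toMulEquiv).toEquiv

include hμ in
theorem two_mul_card_pairs :
    2 * Nat.card {p : Fin n × Fin n // lab hμ p.1 < lab hμ p.2} + ∑ a, μ a * μ a = n * n := by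
  classical
  have h1 : Nat.card {p : Fin n × Fin n // lab hμ p.1 = lab hμ p.2} = ∑ a, μ a * μ a := by
    rw [Nat.card_congr (show {p : Fin n × Fin n // lab hμ p.1 = lab hμ p.2} ≃
      (a : Fin n) × ({i // lab hμ i = a} × {i // lab hμ i = a}) from
      { toFun := fun p => ⟨lab hμ p.1.2, ⟨p.1.1, p.2⟩, ⟨p.1.2, rfl⟩⟩
        invFun := fun x => ⟨(x.2.1.1, x.2.2.1), x.2.1.2.trans x.2.2.2.symm⟩
        left_inv := fun _ => rfl
        right_inv := by rintro ⟨a, ⟨i, hi⟩, ⟨j, hj⟩⟩; simp only; subst hj; rfl }), Nat.card_sigma]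
    simp only [Nat.card_prod, card_lab_fiber]
  have h2 : Nat.card {p : Fin n × Fin n // lab hμ p.2 < lab hμ p.1} =
      Nat.card {p : Fin n × Fin n // lab hμ p.1 < lab hμ p.2} :=
    Nat.card_congr ((Equiv.prodComm _ _).subtypeEquiv fun p => Iff.rfl)
  rw [two_mul]
  nth_rw 2 [← h2]
  rw [← h1]
  have h3 : Nat.card (Fin n × Fin n) = n * n := by simp
  rw [← h3]
  simp only [Nat.card_eq_fintype_card, Fintype.card_subtype]
  simp only [Finset.card_filter, ← sum_add_distrib]
  rw [← card_univ, card_eq_sum_ones]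
  refine sum_congr rfl fun p _ => ?_
  rcases lt_trichotomy (lab hμ p.1) (lab hμ p.2) with h | h | h
  · simp [h, h.ne, h.le]
  · simp [h]
  · simp [h, h.ne', h.le]

include hμ in
theorem index_parabolic_mul :
    Nat.card (GL (Fin n) F ⧸ parabolicGL n F μ) * ∏ i, qFac (Nat.card F) (μ i) = qFac (Nat.card F) n := by
  classical
  set q := Nat.card F with hq
  have hq1 : 1 < q := Finite.one_lt_card
  have hP : Nat.card (parabolicGL n F μ) = q ^ (n * (n - 1) / 2) * (q - 1) ^ n * ∏ i, qFac q (μ i) := by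
    have := Fintype.ofFinite F
    rw [Nat.card_congr (parabolicEquiv hμ), Nat.card_prod, Nat.card_pi, Nat.card_fun]
    simp only [card_GL_fiber, card_GL_eq_qFac, ← hq, prod_mul_distrib, prod_pow_eq_pow_sum, hμ]
    have e : ∑ i, μ i * (μ i - 1) / 2 + Nat.card {p : Fin n × Fin n // lab hμ p.1 < lab hμ p.2} =
        n * (n - 1) / 2 := by
      have h := two_mul_card_pairs hμ
      have hm : ∀ m : ℕ, 2 * (m * (m - 1) / 2) + m = m * m := fun m => by
        rw [Nat.two_mul_div_two_of_even (Nat.even_mul_pred_self m), Nat.mul_sub, mul_one]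
        exact Nat.sub_add_cancel (Nat.le_mul_self m)
      have hs : 2 * ∑ i, μ i * (μ i - 1) / 2 + n = ∑ i, μ i * μ i := by
        rw [mul_sum, ← sum_congr rfl (fun i _ => hm (μ i)), sum_add_distrib, hμ]
      have := hm n
      omega
    rw [← e, pow_add]
    ring
  have h := (Subgroup.card_eq_card_quotient_mul_card_subgroup (parabolicGL n F μ)).symm
  rw [hP, card_GL_eq_qFac, ← hq] at h
  have hne : q ^ (n * (n - 1) / 2) * (q - 1) ^ n ≠ 0 := by
    simp only [ne_eq, mul_eq_zero, pow_eq_zero_iff', not_or]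
    omega
  exact Nat.eq_of_mul_eq_mul_left (Nat.pos_of_ne_zero hne) (by rw [← h]; ring)

end Cfsg.Agent.GLFlag
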