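/-
Permutation characters on coset spaces.
* `fixedPointCharacter_eq_indFun`, `isCharacter_fixedPointCharacter`, `fixedPointCharacter_one`
* `sum_fixedPoint_mul`, `classInner_fixedPoint`: inner product = number of double cosets
-/
import Cfsg.Agent.Lib.Char.Induced

set_option autoImplicit false

namespace Cfsg.Agent.GLFlag

open Cfsg MulAction
open scoped ComplexConjugate

variable {G : Type*} [Group G] (H K : Subgroup G)

theorem fixedPointCharacter_one : fixedPointCharacter H 1 = (H.index : ℂ) := by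
  simp [fixedPointCharacter, Subgroup.index]

theorem card_conj_mem [Finite G] (g : G) :
    Nat.card {x : G // x⁻¹ * g * x ∈ H} = Nat.card H * Nat.card (fixedBy (G ⧸ H) g) := by
  rw [← Nat.card_prod]
  have h : ∀ x : G, x⁻¹ * g * x ∈ H ↔ (x : G ⧸ H) ∈ fixedBy (G ⧸ H) g := by
    intro x
    rw [MulAction.mem_fixedBy, eq_comm, MulAction.Quotient.smul_mk, QuotientGroup.eq, smul_eq_mul, ← mul_assoc]
  exact Nat.card_congr ((Equiv.subtypeEquivRight h).trans
    (QuotientGroup.preimageMkEquivSubgroupProdSet H (fixedBy (G ⧸ H) g)))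

theorem fixedPointCharacter_eq_indFun [Fintype G] :
    fixedPointCharacter H = indFun H (fun _ : H => (1 : ℂ)) := by
  classical
  funext g
  simp only [indFun, fixedPointCharacter]
  rw [show ∑ x : G, extendByZero H (fun _ : H => (1 : ℂ)) (x⁻¹ * g * x) =
      (Nat.card {x : G // x⁻¹ * g * x ∈ H} : ℂ) from ?_, card_conj_mem, Nat.cast_mul,
    inv_mul_cancel_left₀ (Nat.cast_ne_zero.2 Nat.card_pos.ne')]
  rw [Nat.card_eq_fintype_card, Fintype.card_subtype, Finset.natCast_card_filter]
  refine Finset.sum_congr rfl fun x _ => ?_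
  rw [Char.extendByZero_eq]
  split_ifs <;> simp_all

theorem isCharacter_fixedPointCharacter [Fintype G] : IsCharacter G (fixedPointCharacter H) := by
  rw [fixedPointCharacter_eq_indFun]
  exact Char.IsCharacter.indFun H (Char.isCharacter_one)

/-- Orbits on pairs of cosets are double cosets. -/
noncomputable def orbitsEquiv :
    Quotient (orbitRel G ((G ⧸ H) × (G ⧸ K))) ≃ DoubleCoset.Quotient (H : Set G) (K : Set G) := by
  refine (Equiv.ofBijective (fun d : DoubleCoset.Quotient (H : Set G) (K : Set G) =>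
    Quotient.liftOn' d (fun g => (Quotient.mk'' (((1 : G) : G ⧸ H), (g : G ⧸ K)) :
      Quotient (orbitRel G ((G ⧸ H) × (G ⧸ K))))) ?_) ⟨?_, ?_⟩).symm
  · intro a b hab
    obtain ⟨h, hh, k, hk, rfl⟩ := DoubleCoset.rel_iff.1 hab
    refine Quotient.sound' (orbitRel_apply.2 (mem_orbit_iff.2 ⟨h⁻¹, ?_⟩))
    simp only [Prod.smul_mk, MulAction.Quotient.smul_mk, smul_eq_mul, Prod.mk.injEq, QuotientGroup.eq]
    constructor
    · simpa using hh
    · simpa [mul_assoc] using hk
  · intro x y
    induction x using Quotient.inductionOn' with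
    | h a =>
    induction y using Quotient.inductionOn' with
    | h b =>
      intro hab
      obtain ⟨g, hg⟩ := mem_orbit_iff.1 (orbitRel_apply.1 (Quotient.exact' hab))
      simp only [Prod.smul_mk, MulAction.Quotient.smul_mk, smul_eq_mul, Prod.mk.injEq, QuotientGroup.eq,
        mul_one] at hg
      obtain ⟨h1, h2⟩ := hg
      refine (Quotient.sound' (DoubleCoset.rel_iff.2 ⟨g, by simpa using h1, (g * b)⁻¹ * a, h2, ?_⟩)).symm
      simp [mul_assoc]
  · intro q
    induction q using Quotient.inductionOn' with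
    | h p =>
      obtain ⟨⟨x⟩, ⟨y⟩⟩ := p
      refine ⟨Quotient.mk'' (x⁻¹ * y), Quotient.sound' (orbitRel_apply.2 (mem_orbit_iff.2 ⟨x⁻¹, ?_⟩))⟩
      refine Prod.ext ?_ ?_
      · exact (QuotientGroup.eq.2 (by simp) : ((x⁻¹ * x : G) : G ⧸ H) = ((1 : G) : G ⧸ H))
      · rfl

theorem sum_fixedPoint_mul [Fintype G] :
    ∑ g : G, fixedPointCharacter H g * fixedPointCharacter K g =
      (Nat.card G : ℂ) * (Nat.card (DoubleCoset.Quotient (H : Set G) (K : Set G)) : ℂ) := by
  classical
  have h := sum_card_fixedBy_eq_card_orbits_mul_card_group G ((G ⧸ H) × (G ⧸ K))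
  rw [← Nat.card_congr (orbitsEquiv H K)]
  simp only [Fintype.card_eq_nat_card] at h
  rw [mul_comm, ← Nat.cast_mul, ← h, Nat.cast_sum]
  refine Finset.sum_congr rfl fun g _ => ?_
  simp only [fixedPointCharacter, ← Nat.cast_mul, ← Nat.card_prod, Nat.cast_inj]
  exact Nat.card_congr
    { toFun := fun p => ⟨(p.1.1, p.2.1), Prod.ext p.1.2 p.2.2⟩
      invFun := fun p => (⟨p.1.1, congrArg Prod.fst p.2⟩, ⟨p.1.2, congrArg Prod.snd p.2⟩)
      left_inv := fun _ => rfl
      right_inv := fun _ => rfl }

theorem classInner_fixedPoint [Fintype G] :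
    classInner (fixedPointCharacter H) (fixedPointCharacter K) =
      (Nat.card (DoubleCoset.Quotient (H : Set G) (K : Set G)) : ℂ) := by
  have : ∀ g, conj (fixedPointCharacter K g) = fixedPointCharacter K g := fun g => by
    simp [fixedPointCharacter]
  simp only [classInner, this, sum_fixedPoint_mul]
  rw [inv_mul_cancel_left₀ (Nat.cast_ne_zero.2 Nat.card_pos.ne')]

end Cfsg.Agent.GLFlag
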