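/-
Values at the identity and inner products of `unipotentCharacterGL`.
* `unipotent_one_mul` : the degree formula
* `classInner_unipotent` : orthonormality
* `unipotent_isIrr` : irreducibility
-/
import Cfsg.Agent.Lib.GLFlag.Perm
import Cfsg.Agent.Lib.GLFlag.Bruhat
import Cfsg.Agent.Lib.GLFlag.Index
import Cfsg.Agent.Lib.Char.Virtual

set_option autoImplicit false

namespace Cfsg.Agent.GLFlag

open Cfsg Finset
open scoped ComplexConjugate

variable {n : ℕ} {F : Type*} [Field F] [Fintype F]

/-- The parts indexed by a permutation. -/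
def shifted (ν : Fin n → ℕ) (κ : Equiv.Perm (Fin n)) : Fin n → ℕ := fun i => ν i + i.val - (κ i).val

theorem sum_shifted {ν : Fin n → ℕ} (hsum : ∑ i, ν i = n) {κ : Equiv.Perm (Fin n)}
    (h : ∀ i, (κ i).val ≤ ν i + i.val) : ∑ i, shifted ν κ i = n := by
  have h1 : ∑ i, shifted ν κ i + ∑ i, (κ i).val = ∑ i, ν i + ∑ i : Fin n, i.val := by
    rw [← sum_add_distrib, ← sum_add_distrib]
    exact sum_congr rfl fun i _ => Nat.sub_add_cancel (h i)
  rw [Equiv.sum_comp κ (fun i : Fin n => i.val), hsum] at h1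
  omega

/-- A single term of the alternating sum. -/
noncomputable def term (F : Type*) [Field F] (ν : Fin n → ℕ) (κ : Equiv.Perm (Fin n)) : GL (Fin n) F → ℂ :=
  fixedPointCharacter (parabolicGL n F (shifted ν κ))

theorem unipotent_eq_sum (ν : Fin n → ℕ) :
    unipotentCharacterGL n F ν = ∑ κ ∈ univ.filter (fun κ : Equiv.Perm (Fin n) => ∀ i, (κ i).val ≤ ν i + i.val),
      ((Equiv.Perm.sign κ : ℤ) : ℂ) • term F ν κ := by
  funext g
  rw [Finset.sum_apply, sum_filter]
  unfold unipotentCharacterGL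
  refine sum_congr rfl fun κ _ => ?_
  simp only [Pi.smul_apply, smul_eq_mul]
  rfl

theorem unipotent_isGeneralized [DecidableEq F] (ν : Fin n → ℕ) :
    IsGeneralizedCharacter (GL (Fin n) F) (unipotentCharacterGL n F ν) := by
  rw [unipotent_eq_sum]
  refine Char.IsGeneralizedCharacter.sum _ fun κ _ => ?_
  rw [Int.cast_smul_eq_zsmul]
  exact Char.IsGeneralizedCharacter.zsmul
    (Char.isGeneralizedCharacter_of_isCharacter (isCharacter_fixedPointCharacter _)) _

theorem classInner_unipotent [DecidableEq F] {ν ν' : Fin n → ℕ} (hmono : Monotone ν) (hsum : ∑ i, ν i = n)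
    (hmono' : Monotone ν') (hsum' : ∑ i, ν' i = n) :
    classInner (unipotentCharacterGL n F ν) (unipotentCharacterGL n F ν') = if ν = ν' then 1 else 0 := by
  classical
  have hl : ∀ μ : Fin n → ℕ, Monotone μ → StrictMono (fun i : Fin n => μ i + i.val) :=
    fun μ hμ a b hab => add_lt_add_of_le_of_lt (hμ hab.le) (Fin.lt_def.1 hab)
  have key := congrArg (fun z : ℤ => (z : ℂ))
    (alternating_marginCount (fun i => ν i + i.val) (fun i => ν' i + i.val) (hl ν hmono) (hl ν' hmono'))
  simp only [Int.cast_sum, apply_ite (fun z : ℤ => (z : ℂ)), Int.cast_mul, Int.cast_natCast, Int.cast_zero,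
    Int.cast_one] at key
  have hiff : ((fun i : Fin n => ν i + i.val) = fun i => ν' i + i.val) ↔ ν = ν' :=
    ⟨fun h => funext fun i => Nat.add_right_cancel (congrFun h i), fun h => h ▸ rfl⟩
  rw [if_congr hiff rfl rfl] at key
  rw [← key, unipotent_eq_sum, unipotent_eq_sum, Char.classInner_sum_left, sum_filter]
  refine sum_congr rfl fun σ _ => ?_
  by_cases hσ : ∀ i, (σ i).val ≤ ν i + i.val
  · rw [if_pos hσ, Char.classInner_smul_left, Char.classInner_sum_right, sum_filter, mul_sum]
    refine sum_congr rfl fun τ _ => ?_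
    by_cases hτ : ∀ i, (τ i).val ≤ ν' i + i.val
    · rw [if_pos hτ, if_pos ⟨hσ, hτ⟩, Char.classInner_smul_right, map_intCast, term, term,
        classInner_fixedPoint, parabolic_dosets_card (sum_shifted hsum hσ) (sum_shifted hsum' hτ),
        ← mul_assoc]
      rfl
    · rw [if_neg hτ, if_neg (fun h => hτ h.2), mul_zero]
  · rw [if_neg hσ, sum_eq_zero]
    exact fun τ _ => if_neg fun h => hσ h.1

/-- Falling q-factorial. -/
def qFall (q a k : ℕ) : ℕ := ∏ t ∈ range k, qInt q (a - t)

theorem qFall_mul {q a k : ℕ} (h : k ≤ a) : qFall q a k * qFac q (a - k) = qFac q a := by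
  induction k with
  | zero => simp [qFall]
  | succ k ih =>
    rw [qFall, prod_range_succ, ← qFall, mul_assoc]
    have : qFac q (a - k) = qFac q (a - (k + 1)) * qInt q (a - k) := by
      rw [show a - k = (a - (k + 1)) + 1 by omega]
      exact prod_range_succ _ _
    rw [mul_comm (qInt q (a - k)), ← this]
    exact ih (by omega)

theorem qFall_zero {q a k : ℕ} (h : a < k) : qFall q a k = 0 :=
  prod_eq_zero (mem_range.2 h) (by simp [qInt])

theorem qInt_split {q a t : ℕ} (h : t ≤ a) : qInt q a = qInt q t + q ^ t * qInt q (a - t) := by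
  have := (sum_range_add (fun l => q ^ l) t (a - t))
  rw [Nat.add_sub_cancel' h] at this
  rw [qInt, this, qInt, qInt, mul_sum]
  simp [pow_add]

theorem qFall_scaled (q a k : ℕ) :
    ((qFall q a k : ℕ) : ℂ) * (q : ℂ) ^ (k.choose 2) =
      ∏ t ∈ range k, ((qInt q a : ℂ) - (qInt q t : ℂ)) := by
  induction k with
  | zero => simp [qFall]
  | succ k ih =>
    rw [prod_range_succ, ← ih]
    by_cases h : k ≤ a
    · have e : ((qInt q a : ℂ) - (qInt q k : ℂ)) = (q : ℂ) ^ k * (qInt q (a - k) : ℂ) := by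
        rw [qInt_split h]; push_cast; ring
      rw [e, qFall, prod_range_succ, ← qFall, Nat.choose_succ_succ', Nat.choose_one_right, pow_add]
      push_cast
      ring
    · rw [qFall_zero (by omega : a < k + 1), qFall_zero (not_le.1 h)]
      simp

theorem sum_choose_two (n : ℕ) : ∑ i : Fin n, i.val.choose 2 = n * (n - 1) * (n - 2) / 6 := by
  rw [Fin.sum_univ_eq_sum_range (fun i => i.choose 2)]
  have h1 : ∀ m, ∑ i ∈ range m, i.choose 2 = m.choose 3 := fun m => by
    induction m with
    | zero => simp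
    | succ m ih => rw [sum_range_succ, ih, Nat.choose_succ_succ' m 2, add_comm]
  rw [h1, Nat.choose_eq_descFactorial_div_factorial]
  congr 1
  simp [Nat.descFactorial_succ]
  ring

theorem unipotent_one_mul {q : ℕ} (hq : Fintype.card F = q) {ν : Fin n → ℕ} (hsum : ∑ i, ν i = n) :
    unipotentCharacterGL n F ν 1 * (q : ℂ) ^ (n * (n - 1) * (n - 2) / 6) *
      ∏ i : Fin n, (qFac q (ν i + i.val) : ℂ) =
    (qFac q n : ℂ) * ∏ i : Fin n, ∏ j ∈ univ.filter (fun j : Fin n => i < j),
      ((qInt q (ν j + j.val) : ℂ) - (qInt q (ν i + i.val) : ℂ)) := by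
  classical
  have hqF : Nat.card F = q := by rw [Nat.card_eq_fintype_card, hq]
  set lam : Fin n → ℕ := fun i => ν i + i.val with hlam
  let v : Fin n → ℂ := fun i => (qInt q (lam i) : ℂ)
  let P : Fin n → Polynomial ℂ := fun k => ∏ t ∈ range k.val, (Polynomial.X - Polynomial.C (qInt q t : ℂ))
  have hmonic : ∀ k, (P k).Monic := fun k => Polynomial.monic_prod_of_monic _ _ fun t _ => Polynomial.monic_X_sub_C _
  have hdeg : ∀ k, (P k).natDegree = k := fun k => by
    rw [Polynomial.natDegree_prod_of_monic _ _ fun t _ => Polynomial.monic_X_sub_C _,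
      sum_congr rfl fun t _ => Polynomial.natDegree_X_sub_C _]
    simp
  have hdet := Matrix.det_eval_matrixOfPolynomials_eq_det_vandermonde v P hdeg hmonic
  rw [Matrix.det_vandermonde, ← Matrix.det_transpose (Matrix.of fun i j => (P j).eval (v i)),
    Matrix.det_apply'] at hdet
  have hfilter : ∀ i : Fin n, univ.filter (fun j : Fin n => i < j) = Ioi i := fun i => by ext; simp
  simp only [hfilter]
  rw [show (∏ i : Fin n, ∏ j ∈ Ioi i, ((qInt q (lam j) : ℂ) - (qInt q (lam i) : ℂ))) = _ from hdet, mul_sum]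
  simp only [unipotentCharacterGL, sum_mul]
  refine sum_congr rfl fun κ _ => ?_
  have hprod : (∏ i, (qFall q (lam i) (κ i).val : ℂ)) * (q : ℂ) ^ (n * (n - 1) * (n - 2) / 6) =
      ∏ i, (Matrix.of fun i j => (P j).eval (v i)).transpose (κ i) i := by
    rw [← sum_choose_two, ← Equiv.sum_comp κ (fun i : Fin n => i.val.choose 2), ← prod_pow_eq_pow_sum,
      ← prod_mul_distrib]
    refine prod_congr rfl fun i _ => ?_
    simp only [Matrix.transpose_apply, Matrix.of_apply, P, v, Polynomial.eval_prod, Polynomial.eval_sub,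
      Polynomial.eval_X, Polynomial.eval_C]
    exact qFall_scaled q (lam i) (κ i).val
  rw [← hprod]
  split_ifs with h
  · rw [fixedPointCharacter_one]
    have hidx := index_parabolic_mul (F := F) (sum_shifted hsum h)
    rw [hqF] at hidx
    have hall : ((parabolicGL n F (fun i => ν i + i.val - (κ i).val)).index : ℂ) * ∏ i, (qFac q (lam i) : ℂ) =
        (qFac q n : ℂ) * ∏ i, (qFall q (lam i) (κ i).val : ℂ) := by
      rw [← hidx, Nat.cast_mul, Nat.cast_prod, mul_assoc, ← prod_mul_distrib]
      refine congrArg₂ _ rfl (prod_congr rfl fun i _ => ?_)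
      rw [← Nat.cast_mul, mul_comm, shifted]
      exact congrArg _ (qFall_mul (h i)).symm
    linear_combination ((Equiv.Perm.sign κ : ℤ) : ℂ) * (q : ℂ) ^ (n * (n - 1) * (n - 2) / 6) * hall
  · push Not at h
    obtain ⟨i, hi⟩ := h
    rw [prod_eq_zero (f := fun j : Fin n => (qFall q (lam j) (κ j).val : ℂ)) (mem_univ i)
      (by simp [qFall_zero (q := q) hi, hlam])]
    simp

theorem unipotent_isIrr [DecidableEq F] {ν : Fin n → ℕ} (hmono : Monotone ν) (hsum : ∑ i, ν i = n) :
    IsIrrCharacter (GL (Fin n) F) (unipotentCharacterGL n F ν) := by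
  classical
  have h1 : classInner (unipotentCharacterGL n F ν) (unipotentCharacterGL n F ν) = 1 := by
    rw [classInner_unipotent hmono hsum hmono hsum, if_pos rfl]
  obtain ⟨χ, hχ, h | h⟩ := Char.IsGeneralizedCharacter.exists_irr_of_norm_one (unipotent_isGeneralized ν) h1
  · rw [h]; exact hχ
  · exfalso
    set q := Fintype.card F with hq
    have hq0 : 0 < q := Fintype.card_pos
    have hqS : StrictMono (qInt q) := strictMono_nat_of_lt_succ fun a => by
      have hp : 0 < q ^ a := pow_pos hq0 a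
      simp only [qInt, sum_range_succ]
      omega
    obtain ⟨d, hd, hd1⟩ : ∃ d : ℕ, 0 < d ∧ χ 1 = (d : ℂ) := by
      obtain ⟨d, hd⟩ := Char.IsIrrCharacter.exists_degree hχ
      exact ⟨d, hd.1, hd.2⟩
    have e := unipotent_one_mul (F := F) (q := q) rfl hsum
    rw [h, Pi.neg_apply, hd1] at e
    have hval : ∀ i : Fin n, ∀ j ∈ univ.filter (fun j : Fin n => i < j),
        ((qInt q (ν j + j.val) : ℂ) - (qInt q (ν i + i.val) : ℂ)) =
          ((qInt q (ν j + j.val) - qInt q (ν i + i.val) : ℕ) : ℂ) := by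
      intro i j hj
      simp only [mem_filter, mem_univ, true_and] at hj
      rw [Nat.cast_sub (hqS.monotone (by have := hmono hj.le; have := Fin.lt_def.1 hj; omega))]
    rw [prod_congr rfl (fun i _ => prod_congr rfl (hval i))] at e
    simp only [← Nat.cast_prod, ← Nat.cast_pow, neg_mul, ← Nat.cast_mul] at e
    have hL : 0 < d * q ^ (n * (n - 1) * (n - 2) / 6) * ∏ i : Fin n, qFac q (ν i + i.val) :=
      mul_pos (mul_pos hd (pow_pos hq0 _)) (prod_pos fun i _ => qFac_pos hq0 _)
    have e' := congrArg Complex.re e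
    simp only [Complex.neg_re, Complex.natCast_re] at e'
    have : (0 : ℝ) < ((d * q ^ (n * (n - 1) * (n - 2) / 6) * ∏ i : Fin n, qFac q (ν i + i.val) : ℕ) : ℝ) := by
      exact_mod_cast hL
    have h0 := Nat.cast_nonneg (α := ℝ) (qFac q n * ∏ i : Fin n, ∏ j ∈ univ.filter (fun j : Fin n => i < j),
      (qInt q (ν j + j.val) - qInt q (ν i + i.val)))
    linarith

end Cfsg.Agent.GLFlag
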